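import Mathlib

/-!
Jordan sets in quasiprimitive groups: blocks through a transitive Jordan set lie inside it;
a quasiprimitive group with a primitive Jordan set is primitive.
-/

set_option autoImplicit false

namespace Cfsg.Agent.JordanSet

open MulAction SubMulAction Pointwise

variable {G Ω : Type*} [Group G] [MulAction G Ω]

theorem mem_ofFix {Γ : Set Ω} {x : Ω} (hx : x ∈ Γ) : x ∈ ofFixingSubgroup G Γᶜ := by
  simpa [mem_ofFixingSubgroup_iff] using hx

theorem exists_smul_of_jordan {Γ : Set Ω}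
    (hJ : IsPretransitive ↥(fixingSubgroup G Γᶜ) ↥(ofFixingSubgroup G Γᶜ))
    {x y : Ω} (hx : x ∈ Γ) (hy : y ∈ Γ) :
    ∃ h ∈ fixingSubgroup G Γᶜ, h • x = y := by
  obtain ⟨h, hh⟩ := hJ.exists_smul_eq ⟨x, mem_ofFix hx⟩ ⟨y, mem_ofFix hy⟩
  exact ⟨h, h.2, congrArg Subtype.val hh⟩

theorem isPretransitive_of_qp {Γ : Set Ω}
    (hqp : ∀ N : Subgroup G, N.Normal → N ≠ ⊥ → IsPretransitive ↥N Ω)
    (hΓ : Γ.Nontrivial)
    (hJ : IsPretransitive ↥(fixingSubgroup G Γᶜ) ↥(ofFixingSubgroup G Γᶜ)) :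
    IsPretransitive G Ω := by
  obtain ⟨x, hx, y, hy, hxy⟩ := hΓ
  obtain ⟨h, _, hhx⟩ := exists_smul_of_jordan hJ hx hy
  have hne : (⊤ : Subgroup G) ≠ ⊥ := by
    intro e
    have : h = 1 := by
      have : h ∈ (⊥ : Subgroup G) := e ▸ Subgroup.mem_top h
      exact Subgroup.mem_bot.1 this
    exact hxy (by simpa [this] using hhx)
  have := hqp ⊤ inferInstance hne
  exact ⟨fun a b => let ⟨g, hg⟩ := exists_smul_eq ↥(⊤ : Subgroup G) a b; ⟨g, hg⟩⟩

/-- In a quasiprimitive group, a proper block meeting a transitive Jordan set is contained in it,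
or is a singleton. -/
theorem block_subset_of_jordan {Γ : Set Ω}
    (hqp : ∀ N : Subgroup G, N.Normal → N ≠ ⊥ → IsPretransitive ↥N Ω)
    (hΓ : Γ.Nontrivial)
    (hJ : IsPretransitive ↥(fixingSubgroup G Γᶜ) ↥(ofFixingSubgroup G Γᶜ))
    {B : Set Ω} (hB : IsBlock G B) (hBu : B ≠ Set.univ)
    (hBΓ : (B ∩ Γ).Nonempty) : ¬ Γ ⊆ B ∧ B ⊆ Γ := by
  have h1 : ¬ Γ ⊆ B := by
    intro hsub
    obtain ⟨x, hx, y, hy, hxy⟩ := hΓ
    have hH : fixingSubgroup G Γᶜ ≤ (stabilizer G B).normalCore := by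
      intro h hh
      show ∀ g : G, g * h * g⁻¹ ∈ stabilizer G B
      intro g
      rw [mem_stabilizer_iff, mul_smul, mul_smul, smul_eq_iff_eq_inv_smul]
      set D : Set Ω := g⁻¹ • B with hD
      have hfix : ∀ z, z ∉ Γ → h • z = z := fun z hz => (mem_fixingSubgroup_iff G).1 hh z hz
      rcases hB.smul_eq_smul_or_disjoint (g₁ := g⁻¹) (g₂ := 1) with he | hd
      · rw [one_smul] at he
        rw [hD, he]
        rcases hB.smul_eq_smul_or_disjoint (g₁ := h) (g₂ := 1) with he' | hd'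
        · simpa using he'
        · exfalso
          rw [one_smul] at hd'
          have hxh : h • x ∈ Γ := by
            by_contra hn
            have := hfix _ hn
            rw [smul_left_cancel_iff] at this
            rw [this] at hn
            exact hn hx
          exact Set.disjoint_left.1 hd' (Set.smul_mem_smul_set (hsub hx)) (hsub hxh)
      · rw [one_smul] at hd
        refine Set.Subset.antisymm ?_ ?_
        · rintro z ⟨w, hw, rfl⟩
          have : w ∉ Γ := fun hw' => Set.disjoint_left.1 hd hw (hsub hw')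
          show h • w ∈ D
          rw [hfix w this]; exact hw
        · intro w hw
          have : w ∉ Γ := fun hw' => Set.disjoint_left.1 hd hw (hsub hw')
          exact ⟨w, hw, hfix w this⟩
    obtain ⟨h, hh, hhx⟩ := exists_smul_of_jordan hJ hx hy
    have hne : (stabilizer G B).normalCore ≠ ⊥ := by
      intro e
      have := hH hh
      rw [e, Subgroup.mem_bot] at this
      subst this
      exact hxy (by simpa using hhx)
    have ht := hqp _ inferInstance hne
    apply hBu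
    refine Set.eq_univ_iff_forall.2 fun z => ?_
    obtain ⟨⟨k, hk⟩, hkz⟩ := ht.exists_smul_eq x z
    have hk' := (Subgroup.normalCore_le (stabilizer G B)) hk
    rw [mem_stabilizer_iff] at hk'
    rw [← hk', ← hkz]
    exact Set.smul_mem_smul_set (hsub hx)
  refine ⟨h1, fun z hz => ?_⟩
  by_contra hzΓ
  obtain ⟨x, hxB, hxΓ⟩ := hBΓ
  apply h1
  intro y hy
  obtain ⟨h, hh, rfl⟩ := exists_smul_of_jordan hJ hxΓ hy
  have hz' : h • z = z := (mem_fixingSubgroup_iff G).1 hh z hzΓ
  rcases hB.smul_eq_smul_or_disjoint (g₁ := h) (g₂ := 1) with he | hd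
  · rw [one_smul] at he
    rw [← he]
    exact Set.smul_mem_smul_set hxB
  · rw [one_smul] at hd
    exact absurd hz (fun hz => Set.disjoint_left.1 hd ⟨z, hz, hz'⟩ hz)

/-- A quasiprimitive group with a primitive Jordan set is primitive. -/
theorem isPreprimitive_of_qp {Γ : Set Ω}
    (hqp : ∀ N : Subgroup G, N.Normal → N ≠ ⊥ → IsPretransitive ↥N Ω)
    (hΓ : Γ.Nontrivial)
    (hJp : IsPreprimitive ↥(fixingSubgroup G Γᶜ) ↥(ofFixingSubgroup G Γᶜ)) :
    IsPreprimitive G Ω := by
  have hJ : IsPretransitive ↥(fixingSubgroup G Γᶜ) ↥(ofFixingSubgroup G Γᶜ) :=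
    hJp.toIsPretransitive
  have hG := isPretransitive_of_qp hqp hΓ hJ
  obtain ⟨x, hx⟩ := hΓ.nonempty
  refine IsPreprimitive.of_isTrivialBlock_base x fun {B} hxB hB => ?_
  by_cases hBu : B = Set.univ
  · exact Or.inr hBu
  obtain ⟨h1, h2⟩ := block_subset_of_jordan hqp hΓ hJ hB hBu ⟨x, hxB, hx⟩
  have hb := hB.subgroup (H := fixingSubgroup G Γᶜ) |>.subtype_val_preimage
    (C := ofFixingSubgroup G Γᶜ)
  rcases hJp.isTrivialBlock_of_isBlock hb with hs | hu
  · refine Or.inl fun a ha b hb' => ?_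
    exact congrArg Subtype.val
      (hs (x := ⟨a, mem_ofFix (h2 ha)⟩) ha (y := ⟨b, mem_ofFix (h2 hb')⟩) hb')
  · exfalso
    apply h1
    intro y hy
    have : (⟨y, mem_ofFix hy⟩ : ↥(ofFixingSubgroup G Γᶜ)) ∈
        (Subtype.val ⁻¹' B : Set ↥(ofFixingSubgroup G Γᶜ)) := by
      rw [hu]; trivial
    exact this

end Cfsg.Agent.JordanSet
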